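import Cfsg.Agent.Eq.Def_Transfer
import Cfsg.Agent.S0071
import Cfsg.Agent.Frobenius57.ElementOrder
import Cfsg.Agent.Cores.LocalFix
import Cfsg.Agent.CATheorem.CNTheorem
import Cfsg.Agent.CAGroups.SimpleAbelianCentralizers
import Mathlib

/-!
# Groups in which every nonabelian subgroup is self-normalizing

`Cond G`: `H` nonabelian `⇒ N(H) ≤ H`. Such a group of odd order is solvable; if it is simple
nonabelian then the centralizers of its involutions are abelian.
-/

set_option autoImplicit false
set_option linter.style.haveILetI false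

namespace CfsgLib.CAGroups.SelfNorm

open scoped commutatorElement

universe u

variable {G : Type u} [Group G]

/-- The subgroup is abelian. -/
def Comm (H : Subgroup G) : Prop := ∀ a ∈ H, ∀ b ∈ H, a * b = b * a

/-- Every nonabelian subgroup is self-normalizing. -/
def Cond (G : Type u) [Group G] : Prop :=
  ∀ H : Subgroup G, ¬ Comm H → Subgroup.normalizer (H : Set G) ≤ H

theorem isMulCommutative_iff_comm (H : Subgroup G) : IsMulCommutative H ↔ Comm H :=
  ⟨fun h a ha b hb => congrArg Subtype.val (h.1.comm ⟨a, ha⟩ ⟨b, hb⟩),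
    fun h => ⟨⟨fun a b => Subtype.ext (h a a.2 b b.2)⟩⟩⟩

theorem cond_of_normalizer_eq
    (h : ∀ H : Subgroup G, ¬ IsMulCommutative H → Subgroup.normalizer (H : Set G) = H) : Cond G :=
  fun H hH => (h H fun hc => hH ((isMulCommutative_iff_comm H).mp hc)).le

theorem Cond.subgroup (h : Cond G) (K : Subgroup G) : Cond K := by
  intro H hH x hx
  have hne : ¬ Comm (H.map K.subtype) := fun hc => hH fun a ha b hb =>
    Subtype.ext (hc _ (Subgroup.mem_map_of_mem _ ha) _ (Subgroup.mem_map_of_mem _ hb))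
  have := h _ hne (Subgroup.le_normalizer_map K.subtype (Subgroup.mem_map_of_mem _ hx))
  obtain ⟨y, hy, e⟩ := Subgroup.mem_map.mp this
  exact Subtype.ext e ▸ hy

theorem Cond.quotient (h : Cond G) (N : Subgroup G) [N.Normal] : Cond (G ⧸ N) := by
  intro H hH x hx
  obtain ⟨g, rfl⟩ := QuotientGroup.mk'_surjective N x
  have hne : ¬ Comm (H.comap (QuotientGroup.mk' N)) := fun hc => hH fun a ha b hb => by
    obtain ⟨a, rfl⟩ := QuotientGroup.mk'_surjective N a
    obtain ⟨b, rfl⟩ := QuotientGroup.mk'_surjective N b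
    rw [← map_mul, hc a ha b hb, map_mul]
  refine h _ hne (Subgroup.mem_normalizer_iff.mpr fun y => ?_)
  rw [Subgroup.mem_comap, Subgroup.mem_comap, map_mul, map_mul, map_inv]
  exact Subgroup.mem_normalizer_iff.mp hx _

theorem comm_of_normal (h : Cond G) {N : Subgroup G} [N.Normal] (hN : N ≠ ⊤) : Comm N := by
  by_contra hne
  exact hN (top_le_iff.mp (Subgroup.normalizer_eq_top N ▸ h N hne))

/-- A proper normal subgroup of a subgroup is abelian. -/
theorem comm_of_lt (h : Cond G) {H K : Subgroup G} (hK : K ≤ Subgroup.normalizer (H : Set G)) {x : G}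
    (hx : x ∈ K) (hxH : x ∉ H) : Comm H := by
  by_contra hne
  exact hxH (h H hne (hK hx))

theorem odd_orderOf_hom {G' : Type*} [Group G'] (f : G →* G') {g : G} (hg : Odd (orderOf g))
    {P : Subgroup G'} (hP : IsPGroup 2 P) (hfg : f g ∈ P) : f g = 1 := by
  obtain ⟨i, hi⟩ := IsPGroup.iff_orderOf.mp hP ⟨f g, hfg⟩
  rw [Subgroup.orderOf_mk] at hi
  have hodd : Odd (orderOf (f g)) := hg.of_dvd_nat (orderOf_map_dvd f g)
  rcases i with _ | i
  · exact orderOf_eq_one_iff.mp (by rw [hi, pow_zero])
  · rw [hi, pow_succ] at hodd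
    exact absurd hodd (Nat.not_odd_iff_even.mpr (even_two.mul_left _))

/-- A cyclic nontrivial Sylow 2-subgroup gives a proper normal subgroup containing every element of
odd order. -/
theorem exists_normal_of_cyclic_sylow_two [Finite G] (P : Sylow 2 G) (hcyc : IsCyclic (P : Subgroup G))
    (hne : (P : Subgroup G) ≠ ⊥) : ∃ W : Subgroup G, W.Normal ∧ W ≠ ⊤ ∧ ∀ g, Odd (orderOf g) → g ∈ W := by
  haveI : Fact (Nat.Prime 2) := ⟨Nat.prime_two⟩
  have h2 : 2 ∣ Nat.card G := by
    obtain ⟨n, hn⟩ := IsPGroup.iff_card.mp P.2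
    refine dvd_trans ?_ (Subgroup.card_subgroup_dvd_card (P : Subgroup G))
    rw [hn]
    refine dvd_pow_self 2 fun h0 => hne (Subgroup.eq_bot_of_card_eq _ ?_)
    rw [hn, h0, pow_zero]
  have hmin : (Nat.card G).minFac = 2 := (Nat.minFac_eq_two_iff _).mpr h2
  set f := MonoidHom.transferSylow P (hcyc.normalizer_le_centralizer hmin)
  have hcompl := IsCyclic.isComplement' hmin hcyc
  refine ⟨f.ker, inferInstance, fun ht => ?_, fun g hg => ?_⟩
  · have hdis : f.ker ⊓ (P : Subgroup G) = ⊥ := disjoint_iff.mp hcompl.disjoint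
    rw [ht, top_inf_eq] at hdis
    exact hne hdis
  · rw [MonoidHom.mem_ker]
    refine odd_orderOf_hom f hg (P := ⊤) ?_ (Subgroup.mem_top _)
    exact P.2.of_equiv Subgroup.topEquiv.symm

section Solvable

variable [Finite G]

/-- In a simple group the solvable centralizers of elements of prime order are nilpotent. -/
theorem isNilpotent_centralizer (h : Cond G) [IsSimpleGroup G] (hna : ¬ Comm (⊤ : Subgroup G)) {x : G}
    (hx : (orderOf x).Prime)
    (hsol : ¬ Comm (Subgroup.centralizer ({x} : Set G)) → commutator (Subgroup.centralizer ({x} : Set G)) ≠ ⊤) :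
    Group.IsNilpotent (Subgroup.centralizer ({x} : Set G)) := by
  classical
  set H := Subgroup.centralizer ({x} : Set G) with hH
  by_cases hab : Comm H
  · exact @CommGroup.isNilpotent _ { (inferInstance : Group H) with
      mul_comm := fun a b => Subtype.ext (hab a a.2 b b.2) }
  haveI : Fact (orderOf x).Prime := ⟨hx⟩
  have hxH : x ∈ H := Subgroup.mem_centralizer_singleton_iff.mpr rfl
  set W := commutator H with hW
  have hWc : Comm W := comm_of_normal (h.subgroup H) (hsol hab)
  -- if the derived subgroup is central then the group is nilpotent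
  by_cases hcen : ∀ w ∈ W, ∀ y : H, y * w = w * y
  · haveI : Group.IsNilpotent (H ⧸ W) := CommGroup.isNilpotent (G := Abelianization H)
    refine Subgroup.isNilpotent_of_ker_le_center (QuotientGroup.mk' W) ?_
    rw [QuotientGroup.ker_mk']
    exact fun w hw => Subgroup.mem_center_iff.mpr (hcen w hw)
  push Not at hcen
  obtain ⟨w₀, hw₀, y, hy⟩ := hcen
  haveI hWn : W.Normal := inferInstance
  -- some element of prime power order together with `W` generates
  obtain ⟨s, r, hr, k, hsr, hgen⟩ : ∃ (s : H) (r : ℕ), r.Prime ∧ ∃ k, orderOf s = r ^ k ∧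
      W ⊔ Subgroup.zpowers s = ⊤ := by
    by_contra hno
    push Not at hno
    apply hy
    have hCy : ∀ y : H, y ∈ Subgroup.centralizer ({w₀} : Set H) := by
      have : (Subgroup.centralizer ({w₀} : Set H)) = ⊤ := by
        refine top_le_iff.mp (CfsgLib.Frobenius57.le_of_forall_prime_pow_order ⊤ _ ?_)
        rintro r hr s - ⟨k, hsr⟩
        have hn : (W ⊔ Subgroup.zpowers s).Normal := by
          refine ⟨fun a ha g => ?_⟩
          rw [show g * a * g⁻¹ = ⁅g, a⁆ * a by rw [commutatorElement_def]; group]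
          exact Subgroup.mul_mem _ (Subgroup.mem_sup_left
            (Subgroup.commutator_mem_commutator (Subgroup.mem_top g) (Subgroup.mem_top a))) ha
        have hc := comm_of_normal (h.subgroup H) (hno s r hr k hsr)
        exact Subgroup.mem_centralizer_singleton_iff.mpr
          (hc s (Subgroup.mem_sup_right (Subgroup.mem_zpowers s)) w₀ (Subgroup.mem_sup_left hw₀))
      exact fun y => this ▸ Subgroup.mem_top y
    exact Subgroup.mem_centralizer_singleton_iff.mp (hCy y)
  haveI : Fact r.Prime := ⟨hr⟩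
  have hdec : ∀ g : H, ∃ w ∈ W, ∃ i : ℤ, g = w * s ^ i := fun g => by
    obtain ⟨w, hw, _, ⟨i, rfl⟩, e⟩ := Subgroup.mem_sup_of_normal_left.mp (hgen ▸ Subgroup.mem_top g)
    exact ⟨w, hw, i, e.symm⟩
  -- `[s, ·]` is a bijection of `W`
  let φ : W →* W := MonoidHom.mk' (fun w => ⟨⁅s, (w : H)⁆,
      Subgroup.commutator_mem_commutator (Subgroup.mem_top s) (Subgroup.mem_top _)⟩) fun a b => Subtype.ext (by
    show ⁅s, (a : H) * b⁆ = ⁅s, (a : H)⁆ * ⁅s, (b : H)⁆
    have hm : s * b * s⁻¹ * (b : H)⁻¹ ∈ W := Subgroup.commutator_mem_commutator (Subgroup.mem_top s) (Subgroup.mem_top _)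
    simp only [commutatorElement_def]
    calc s * ((a : H) * b) * s⁻¹ * ((a : H) * b)⁻¹
        = s * a * s⁻¹ * ((s * b * s⁻¹ * (b : H)⁻¹) * (a : H)⁻¹) := by group
      _ = s * a * s⁻¹ * (a : H)⁻¹ * (s * b * s⁻¹ * (b : H)⁻¹) := by
        rw [hWc _ hm _ (W.inv_mem a.2)]; group)
  have hsurj : Function.Surjective φ := by
    set D := φ.range.map W.subtype with hD
    have hDmem : ∀ v : H, v ∈ D ↔ ∃ w ∈ W, ⁅s, w⁆ = v := fun v => by
      constructor
      · rintro ⟨_, ⟨w, rfl⟩, rfl⟩; exact ⟨w, w.2, rfl⟩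
      · rintro ⟨w, hw, rfl⟩; exact ⟨φ ⟨w, hw⟩, ⟨⟨w, hw⟩, rfl⟩, rfl⟩
    have hDW : D ≤ W := fun v hv => by
      obtain ⟨⟨v, hv'⟩, -, rfl⟩ := hv; exact hv'
    haveI : D.Normal := ⟨fun v hv g => by
      obtain ⟨w, hw, i, rfl⟩ := hdec g
      obtain ⟨a, ha, rfl⟩ := (hDmem v).mp hv
      have hsi : s ^ i * ⁅s, a⁆ * (s ^ i)⁻¹ = ⁅s, s ^ i * a * (s ^ i)⁻¹⁆ := by
        simp only [commutatorElement_def]; group
      rw [show w * s ^ i * ⁅s, a⁆ * (w * s ^ i)⁻¹ = w * (s ^ i * ⁅s, a⁆ * (s ^ i)⁻¹) * w⁻¹ by group, hsi,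
        hWc w hw _ (Subgroup.commutator_mem_commutator (Subgroup.mem_top s) (Subgroup.mem_top _)),
        mul_inv_cancel_right]
      exact (hDmem _).mpr ⟨_, hWn.conj_mem a ha _, rfl⟩⟩
    have hsw : ∀ w ∈ W, Commute (QuotientGroup.mk' D s) (QuotientGroup.mk' D w) := fun w hw => by
      rw [← commutatorElement_eq_one_iff_commute, ← map_commutatorElement]
      exact (QuotientGroup.eq_one_iff _).mpr ((hDmem _).mpr ⟨w, hw, rfl⟩)
    have hWD : W ≤ D := by
      rw [hW, commutator_def, Subgroup.commutator_le]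
      intro a _ b _
      obtain ⟨w, hw, i, rfl⟩ := hdec a
      obtain ⟨v, hv, j, rfl⟩ := hdec b
      rw [← QuotientGroup.eq_one_iff]
      show QuotientGroup.mk' D _ = 1
      rw [map_commutatorElement, commutatorElement_eq_one_iff_commute]
      have hwv : Commute (QuotientGroup.mk' D w) (QuotientGroup.mk' D v) := (show Commute w v from hWc w hw v hv).map _
      rw [map_mul, map_mul, map_zpow, map_zpow]
      exact ((hwv.mul_right ((hsw w hw).symm.zpow_right j)).mul_left
        (((hsw v hv).zpow_left i).mul_right ((Commute.refl _).zpow_zpow i j)))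
    intro v
    obtain ⟨w, hw, e⟩ := (hDmem _).mp (hWD v.2)
    exact ⟨⟨w, hw⟩, Subtype.ext e⟩
  have hinj : Function.Injective φ := Finite.injective_iff_surjective.mpr hsurj
  have hfix : ∀ w ∈ W, Commute s w → w = 1 := fun w hw hc => by
    have : φ ⟨w, hw⟩ = φ 1 := by
      rw [map_one]; exact Subtype.ext (commutatorElement_eq_one_iff_commute.mpr hc)
    exact congrArg Subtype.val (hinj this)
  -- `x` is a power of `s`
  obtain ⟨w, hw, i, hxw⟩ := hdec ⟨x, hxH⟩
  have hxc : ∀ g : H, Commute g ⟨x, hxH⟩ := fun g =>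
    Subtype.ext (Subgroup.mem_centralizer_singleton_iff.mp g.2)
  have hw1 : w = 1 := by
    refine hfix w hw ?_
    have h1 := hxc s
    rw [hxw] at h1
    have := h1.mul_right (((Commute.refl s).zpow_right i).inv_right)
    rwa [mul_inv_cancel_right] at this
  rw [hw1, one_mul] at hxw
  set R := (Subgroup.zpowers s).map H.subtype with hR
  have hRx : x ∈ R := ⟨s ^ i, Subgroup.zpow_mem _ (Subgroup.mem_zpowers s) i, (congrArg Subtype.val hxw).symm⟩
  have hRcyc : IsCyclic R := by rw [hR]; exact (Subgroup.equivMapOfInjective _ _ H.subtype_injective).isCyclic.mp inferInstance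
  have hRp : IsPGroup r R :=
    (IsPGroup.of_card (n := k) (by rw [Nat.card_zpowers, hsr])).map _
  have hNR : Subgroup.normalizer (R : Set G) ≤ R := by
    intro g hg
    have hgx : g * x * g⁻¹ ∈ Subgroup.zpowers x := by
      have hgxR := (Subgroup.mem_normalizer_iff.mp hg x).mp hRx
      -- unique subgroup of given order in a cyclic group
      haveI := Fintype.ofFinite R
      haveI := hRcyc
      have hle := IsCyclic.card_pow_eq_one_le (α := R) hx.pos
      by_contra hnot
      let S : Finset R := Finset.univ.filter fun v => (v : G) ∈ Subgroup.zpowers x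
      have hS : S.card = orderOf x := by
        rw [← Nat.card_zpowers, ← Nat.card_eq_finsetCard]
        exact Nat.card_congr
          { toFun := fun v => ⟨_, (Finset.mem_filter.1 v.2).2⟩
            invFun := fun v => ⟨⟨v.1, (Subgroup.zpowers_le.mpr hRx) v.2⟩, Finset.mem_filter.2 ⟨Finset.mem_univ _, v.2⟩⟩
            left_inv := fun v => rfl
            right_inv := fun v => rfl }
      have hsub : insert (⟨g * x * g⁻¹, hgxR⟩ : R) S ⊆ Finset.univ.filter fun v : R => v ^ orderOf x = 1 := by
        intro v hv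
        refine Finset.mem_filter.2 ⟨Finset.mem_univ _, Subtype.ext ?_⟩
        rcases Finset.mem_insert.1 hv with rfl | hv
        · show (g * x * g⁻¹) ^ orderOf x = 1
          rw [conj_pow, pow_orderOf_eq_one, mul_one, mul_inv_cancel]
        · obtain ⟨m, hm⟩ := (Finset.mem_filter.1 hv).2
          show (v : G) ^ orderOf x = 1
          rw [← hm, ← zpow_natCast, ← zpow_mul, mul_comm, zpow_mul, zpow_natCast, pow_orderOf_eq_one, one_zpow]
      have hh := (Finset.card_le_card hsub).trans hle
      rw [Finset.card_insert_of_notMem (s := S) (a := (⟨g * x * g⁻¹, hgxR⟩ : R)) (fun hm => hnot (Finset.mem_filter.1 hm).2), hS] at hh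
      omega
    have hgH : g ∈ Subgroup.normalizer (H : Set G) := by
      refine Subgroup.mem_normalizer_fintype (S := (H : Set G)) fun v hv => ?_
      obtain ⟨m, hm⟩ := hgx
      have hvc : Commute v x := Subgroup.mem_centralizer_singleton_iff.mp hv
      have hc : Commute (g * v * g⁻¹) ((g * x * g⁻¹)) := hvc.conj g
      refine Subgroup.mem_centralizer_singleton_iff.mpr ?_
      obtain ⟨m', hm'⟩ : x ∈ Subgroup.zpowers (g * x * g⁻¹) := by
        have hcard : Nat.card (Subgroup.zpowers (g * x * g⁻¹)) = Nat.card (Subgroup.zpowers x) := by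
          rw [Nat.card_zpowers, Nat.card_zpowers, CfsgLib.StronglyEmbedded.orderOf_conj]
        rw [Subgroup.eq_of_le_of_card_ge (Subgroup.zpowers_le.mpr
          (show g * x * g⁻¹ ∈ Subgroup.zpowers x from ⟨m, hm⟩)) hcard.ge]
        exact Subgroup.mem_zpowers x
      have := hc.zpow_right m'
      simp only at hm'
      rw [hm'] at this
      exact this.eq
    have hg' : g ∈ H := h H hab hgH
    obtain ⟨v, hv, j, e⟩ := hdec ⟨g, hg'⟩
    have hv1 : v = 1 := by
      refine hfix v hv ?_
      have hvs : v * s * v⁻¹ ∈ Subgroup.zpowers s := by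
        have hs' : (s : G) ∈ R := Subgroup.mem_map_of_mem _ (Subgroup.mem_zpowers s)
        obtain ⟨t, ht, ht'⟩ := (Subgroup.mem_normalizer_iff.mp hg _).mp hs'
        have ht2 : t = (⟨g, hg'⟩ : H) * s * (⟨g, hg'⟩ : H)⁻¹ := Subtype.ext ht'
        rw [e, show v * s ^ j * s * (v * s ^ j)⁻¹ = v * (s ^ j * s * (s ^ j)⁻¹) * v⁻¹ by group,
          ((Commute.refl s).zpow_left j).eq, mul_inv_cancel_right] at ht2
        exact ht2 ▸ ht
      obtain ⟨m, hm⟩ := hvs
      have hcm : ⁅v, s⁆ ∈ W := Subgroup.commutator_mem_commutator (Subgroup.mem_top v) (Subgroup.mem_top s)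
      have h1 : ⁅v, s⁆ = 1 := by
        refine hfix _ hcm ?_
        rw [commutatorElement_def, ← hm]
        exact ((Commute.refl s).zpow_right m).mul_right (Commute.refl s).inv_right
      exact (commutatorElement_eq_one_iff_commute.mp h1).symm
    refine ⟨s ^ j, Subgroup.zpow_mem _ (Subgroup.mem_zpowers s) j, ?_⟩
    rw [hv1, one_mul] at e
    exact (congrArg Subtype.val e).symm
  obtain ⟨P, hP⟩ := hRp.exists_le_sylow
  have hPR : (P : Subgroup G) = R := by
    refine le_antisymm ?_ hP
    by_contra hlt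
    have hlt' : R.subgroupOf (P : Subgroup G) ≠ ⊤ := fun e => hlt (Subgroup.subgroupOf_eq_top.mp e)
    haveI : Group.IsNilpotent (P : Subgroup G) := P.2.isNilpotent
    have := Group.normalizerCondition_of_isNilpotent (G := (P : Subgroup G)) _ (lt_top_iff_ne_top.mpr hlt')
    refine this.not_ge ?_
    intro v hv
    rw [Subgroup.mem_subgroupOf]
    refine hNR (Subgroup.mem_normalizer_fintype (S := (R : Set G)) fun q hq => ?_)
    exact ((Subgroup.mem_normalizer_iff.mp hv ⟨q, hP hq⟩).mp hq)
  have hnc : Subgroup.normalizer ((P : Subgroup G) : Set G) ≤ Subgroup.centralizer ((P : Subgroup G) : Set G) := by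
    rw [hPR]
    refine hNR.trans fun a ha => Subgroup.mem_centralizer_iff.mpr fun b hb => ?_
    haveI := hRcyc
    letI := IsCyclic.commGroup (α := R)
    exact congrArg Subtype.val (mul_comm (⟨b, hb⟩ : R) ⟨a, ha⟩)
  have hcompl := MonoidHom.ker_transferSylow_isComplement' P hnc
  rcases (inferInstance : (MonoidHom.transferSylow P hnc).ker.Normal).eq_bot_or_eq_top with hb | ht
  · rw [hb] at hcompl
    have htop : (P : Subgroup G) = ⊤ := Subgroup.isComplement'_bot_left.mp hcompl
    rw [hPR] at htop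
    haveI := hRcyc
    letI := IsCyclic.commGroup (α := R)
    exact absurd (fun a _ b _ => congrArg Subtype.val
      (mul_comm (⟨a, htop ▸ Subgroup.mem_top a⟩ : R) ⟨b, htop ▸ Subgroup.mem_top b⟩)) hna
  · rw [ht] at hcompl
    have hbot : (P : Subgroup G) = ⊥ := Subgroup.isComplement'_top_left.mp hcompl
    rw [hPR] at hbot
    rw [hbot, Subgroup.mem_bot] at hRx
    rw [hRx, orderOf_one] at hx
    exact absurd hx Nat.not_prime_one

end Solvable

/-- Groups of odd order satisfying the condition are solvable. -/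
theorem isSolvable_of_odd_aux : ∀ (n : ℕ) (G : Type u) [Group G] [Finite G],
    Nat.card G = n → Cond G → Odd n → Group.IsSolvable G := by
  intro n
  induction n using Nat.strong_induction_on with
  | _ n ih =>
  intro G _ _ hn h hodd
  by_contra hns
  have hna : ¬ Comm (⊤ : Subgroup G) := fun hc => hns
    (Group.isSolvable_of_comm fun a b => hc a (Subgroup.mem_top a) b (Subgroup.mem_top b))
  haveI : Nontrivial G := by
    by_contra hs
    rw [not_nontrivial_iff_subsingleton] at hs
    exact hna fun a _ b _ => Subsingleton.elim _ _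
  have hsub : ∀ H : Subgroup G, H ≠ ⊤ → Group.IsSolvable H := fun H hH => by
    have hlt : Nat.card H < n := hn ▸
      lt_of_le_of_ne (Subgroup.card_le_card_group H) fun e => hH (Subgroup.eq_top_of_card_eq H e)
    exact ih _ hlt H rfl (h.subgroup H) (hodd.of_dvd_nat (hn ▸ Subgroup.card_subgroup_dvd_card H))
  haveI : IsSimpleGroup G := by
    refine ⟨fun N hN => ?_⟩
    by_contra hNp
    push Not at hNp
    haveI := hsub N hNp.2
    have hlt : Nat.card (G ⧸ N) < n := by
      rw [← hn, Subgroup.card_eq_card_quotient_mul_card_subgroup N]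
      exact lt_mul_of_one_lt_right Nat.card_pos ((Subgroup.one_lt_card_iff_ne_bot N).mpr hNp.1)
    haveI := ih _ hlt (G ⧸ N) rfl (h.quotient N) (hodd.of_dvd_nat (hn ▸ Subgroup.card_quotient_dvd_card N))
    exact hns (Group.isSolvable_of_ker_le_range N.subtype (QuotientGroup.mk' N)
      (by rw [QuotientGroup.ker_mk', Subgroup.range_subtype]))
  refine hns (CfsgLib.CATheorem.cn_theorem _ G rfl (hn.symm ▸ hodd) fun x hx => ?_)
  obtain ⟨p, hp, hd⟩ := Nat.exists_prime_and_dvd (fun e => hx (orderOf_eq_one_iff.mp e))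
  have ho : orderOf (x ^ (orderOf x / p)) = p := orderOf_pow_orderOf_div (orderOf_pos x).ne' hd
  haveI := isNilpotent_centralizer h hna (x := x ^ (orderOf x / p)) (ho.symm ▸ hp) fun hab htop => by
    have hne : Subgroup.centralizer ({x ^ (orderOf x / p)} : Set G) ≠ ⊤ := fun e => by
      have hz : x ^ (orderOf x / p) ∈ Subgroup.center G := Subgroup.mem_center_iff.mpr fun g =>
        Subgroup.mem_centralizer_singleton_iff.mp (e ▸ Subgroup.mem_top g)
      rcases (inferInstance : (Subgroup.center G).Normal).eq_bot_or_eq_top with hb | ht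
      · rw [hb, Subgroup.mem_bot] at hz
        rw [hz, orderOf_one] at ho
        exact hp.one_lt.ne ho
      · exact hna fun a _ b _ => Subgroup.mem_center_iff.mp (ht ▸ Subgroup.mem_top b) a
    haveI := hsub _ hne
    haveI : Nontrivial (Subgroup.centralizer ({x ^ (orderOf x / p)} : Set G)) :=
      (Subgroup.nontrivial_iff_ne_bot _).mpr fun e => hab fun a ha b hb => by
        rw [e, Subgroup.mem_bot] at ha hb
        rw [ha, hb]
    exact (Group.IsSolvable.commutator_lt_top_of_nontrivial _).ne htop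
  have hle : Subgroup.centralizer ({x} : Set G) ≤ Subgroup.centralizer ({x ^ (orderOf x / p)} : Set G) :=
    fun v hv => Subgroup.mem_centralizer_singleton_iff.mpr
      ((show Commute v x from Subgroup.mem_centralizer_singleton_iff.mp hv).pow_right _)
  refine Subgroup.isNilpotent_of_ker_le_center (Subgroup.inclusion hle) ?_
  rw [(MonoidHom.ker_eq_bot_iff _).mpr (Subgroup.inclusion_injective hle)]
  exact bot_le

variable [Finite G] [IsSimpleGroup G]

theorem center_eq_bot_of_simple (hna : ¬ Comm (⊤ : Subgroup G)) : Subgroup.center G = ⊥ := by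
  rcases (inferInstance : (Subgroup.center G).Normal).eq_bot_or_eq_top with hb | ht
  · exact hb
  · exact absurd (fun a _ b _ => Subgroup.mem_center_iff.mp (ht ▸ Subgroup.mem_top b) a) hna

/-- The Sylow 2-subgroups are abelian. -/
theorem comm_sylow_two (h : Cond G) (hna : ¬ Comm (⊤ : Subgroup G)) (S : Sylow 2 G) :
    Comm (S : Subgroup G) := by
  classical
  by_contra hS
  haveI : Fact (Nat.Prime 2) := ⟨Nat.prime_two⟩
  have hNS : Subgroup.normalizer ((S : Subgroup G) : Set G) ≤ S := h _ hS
  have key : ∀ Q : Subgroup G, Q ≤ (S : Subgroup G) → ∀ g ∈ Subgroup.normalizer (Q : Set G),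
      Nat.Coprime (orderOf g) 2 → g ∈ Subgroup.centralizer (Q : Set G) := by
    intro Q hQ g hg hg2
    have hgodd : Odd (orderOf g) := Nat.coprime_two_right.mp hg2
    by_cases hQS : (S : Subgroup G) ≤ Q
    · have hgS : g ∈ (S : Subgroup G) := hNS (le_antisymm hQ hQS ▸ hg)
      rw [show g = 1 from (map_one (MonoidHom.id G)) ▸ odd_orderOf_hom (MonoidHom.id G) hgodd S.2 hgS]
      exact one_mem _
    have hQ' : Q.subgroupOf (S : Subgroup G) ≠ ⊤ := fun e => hQS (Subgroup.subgroupOf_eq_top.mp e)
    obtain ⟨M, hM, hQM⟩ := (eq_top_or_exists_le_coatom (Q.subgroupOf (S : Subgroup G))).resolve_left hQ'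
    haveI : Group.IsNilpotent (S : Subgroup G) := S.2.isNilpotent
    haveI hMn : M.Normal := Subgroup.NormalizerCondition.normal_of_coatom M Group.normalizerCondition_of_isNilpotent hM
    set A := M.map (S : Subgroup G).subtype with hA
    have hAS : A ≤ (S : Subgroup G) := Subgroup.map_subtype_le M
    obtain ⟨s, hs⟩ : ∃ s : (S : Subgroup G), s ∉ M := by
      by_contra hall
      push Not at hall
      exact hM.1 (eq_top_iff.mpr fun v _ => hall v)
    have hsA : (s : G) ∉ A := fun hm => by
      obtain ⟨m, hm, e⟩ := Subgroup.mem_map.mp hm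
      exact hs (Subtype.ext e ▸ hm)
    have hSA : (S : Subgroup G) ≤ Subgroup.normalizer (A : Set G) := fun v hv =>
      Subgroup.le_normalizer_map (S : Subgroup G).subtype
        (x := v) ⟨⟨v, hv⟩, (Subgroup.normalizer_eq_top M).symm ▸ Subgroup.mem_top _, rfl⟩
    have hAc : Comm A := comm_of_lt h hSA s.2 hsA
    have hsup : ∀ v ∈ (S : Subgroup G), ∃ a ∈ A, ∃ i : ℤ, v = a * (s : G) ^ i := fun v hv => by
      have htop : M ⊔ Subgroup.zpowers s = ⊤ := hM.2 _ (lt_of_le_of_ne le_sup_left fun e =>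
        hs (e ▸ Subgroup.mem_sup_right (Subgroup.mem_zpowers s)))
      obtain ⟨m, hm, _, ⟨i, rfl⟩, e⟩ := Subgroup.mem_sup_of_normal_left.mp
        (htop ▸ Subgroup.mem_top (⟨v, hv⟩ : (S : Subgroup G)))
      exact ⟨m, Subgroup.mem_map_of_mem _ hm, i, by rw [← SubgroupClass.coe_zpow, ← Subgroup.coe_mul, e]⟩
    have hQA : Q ≤ A := fun q hq => ⟨⟨q, hQ hq⟩, hQM hq, rfl⟩
    -- `N(A)` acts on `A` as a 2-group
    have hNA : ∀ v ∈ Subgroup.normalizer (A : Set G), Odd (orderOf v) →
        v ∈ Subgroup.centralizer (A : Set G) := by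
      intro v hv hvodd
      by_contra hvC
      set K := Subgroup.normalizer (A : Set G) with hK
      set C := Subgroup.centralizer (A : Set G) with hC
      have hKC : K ≤ Subgroup.normalizer (C : Set G) := CfsgLib.Cores.normalizer_le_normalizer_centralizer A
      have hCc : Comm C := comm_of_lt h hKC hv hvC
      have hAC : A ≤ C := fun a ha => Subgroup.mem_centralizer_iff.mpr fun b hb => hAc b hb a ha
      haveI : (C.subgroupOf K).Normal := (Subgroup.normal_subgroupOf_iff_le_normalizer
        (Subgroup.centralizer_le_normalizer _)).mpr hKC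
      set π := QuotientGroup.mk' (C.subgroupOf K)
      set P := (S.subtype hSA).mapSurjective (QuotientGroup.mk'_surjective (C.subgroupOf K))
      have hPgen : (P : Subgroup _) = Subgroup.zpowers (π ⟨s, hSA s.2⟩) := by
        refine le_antisymm ?_ (Subgroup.zpowers_le.mpr ⟨⟨s, hSA s.2⟩, s.2, rfl⟩)
        rintro _ ⟨⟨q, hq⟩, hqS, rfl⟩
        obtain ⟨a, ha, i, rfl⟩ := hsup q hqS
        refine ⟨i, ?_⟩
        have : (⟨a * (s : G) ^ i, hq⟩ : K) = ⟨a, hSA (hAS ha)⟩ * ⟨s, hSA s.2⟩ ^ i :=
          Subtype.ext (by simp)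
        show π _ ^ i = π _
        rw [this, map_mul, map_zpow, show π (⟨a, hSA (hAS ha)⟩ : K) = 1 from
          (QuotientGroup.eq_one_iff (N := C.subgroupOf K) _).mpr (hAC ha :), one_mul]
      obtain ⟨W, hWn, hWtop, hW⟩ := exists_normal_of_cyclic_sylow_two P
        (by rw [hPgen]; infer_instance) (by
          rw [hPgen, Subgroup.zpowers_ne_bot]
          intro e
          have hsC : (⟨(s : G), hSA s.2⟩ : K) ∈ C.subgroupOf K := (QuotientGroup.eq_one_iff _).mp e
          refine hS fun a ha b hb => ?_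
          have hmem : ∀ q ∈ (S : Subgroup G), q ∈ C := fun q hq => by
            obtain ⟨a, ha, i, rfl⟩ := hsup q hq
            exact C.mul_mem (hAC ha) (C.zpow_mem (show (s : G) ∈ C from hsC) i)
          exact hCc a (hmem a ha) b (hmem b hb))
      set L := W.comap π with hL
      have hLtop : L ≠ ⊤ := fun e => hWtop (by
        rw [← Subgroup.map_comap_eq_self_of_surjective (QuotientGroup.mk'_surjective _) W, ← hL, e,
          Subgroup.map_top_of_surjective _ (QuotientGroup.mk'_surjective _)])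
      have hLc := comm_of_normal (h.subgroup K) hLtop
      refine hvC (Subgroup.mem_centralizer_iff.mpr fun a ha => ?_)
      have hvL : (⟨v, hv⟩ : K) ∈ L := hW _ (by
        have h1 : Odd (orderOf (⟨v, hv⟩ : K)) := by rw [Subgroup.orderOf_mk]; exact hvodd
        exact h1.of_dvd_nat (orderOf_map_dvd π _))
      have haL : (⟨a, Subgroup.le_normalizer ha⟩ : K) ∈ L := by
        rw [hL, Subgroup.mem_comap, show π (⟨a, Subgroup.le_normalizer ha⟩ : K) = 1 from
          (QuotientGroup.eq_one_iff (N := C.subgroupOf K) _).mpr (hAC ha :)]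
        exact one_mem _
      exact congrArg Subtype.val (hLc _ haL _ hvL)
    by_contra hgC
    set C := Subgroup.centralizer (Q : Set G) with hC
    have hKC : Subgroup.normalizer (Q : Set G) ≤ Subgroup.normalizer (C : Set G) :=
      CfsgLib.Cores.normalizer_le_normalizer_centralizer Q
    have hCc : Comm C := comm_of_lt h hKC hg hgC
    have hAC : A ≤ C := fun a ha => Subgroup.mem_centralizer_iff.mpr fun q hq => hAc q (hQA hq) a ha
    -- the 2-part of `C`
    let C2 : Subgroup G :=
      { carrier := {c | c ∈ C ∧ ∃ i, orderOf c ∣ 2 ^ i}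
        one_mem' := ⟨one_mem _, 0, by rw [orderOf_one]; exact one_dvd _⟩
        mul_mem' := fun {a b} ha hb => ⟨mul_mem ha.1 hb.1, ha.2.choose + hb.2.choose, by
          rw [pow_add]
          exact (show Commute a b from hCc a ha.1 b hb.1).orderOf_mul_dvd_mul_orderOf.trans
            (mul_dvd_mul ha.2.choose_spec hb.2.choose_spec)⟩
        inv_mem' := fun {a} ha => ⟨inv_mem ha.1, by rw [orderOf_inv]; exact ha.2⟩ }
    have hC2p : IsPGroup 2 C2 := fun c => by
      obtain ⟨i, hi⟩ := c.2.2
      exact ⟨i, Subtype.ext (orderOf_dvd_iff_pow_eq_one.mp hi)⟩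
    have hAC2 : A ≤ C2 := fun a ha => ⟨hAC ha, by
      obtain ⟨i, hi⟩ := IsPGroup.iff_orderOf.mp S.2 ⟨a, hAS ha⟩
      exact ⟨i, by rw [Subgroup.orderOf_mk] at hi; rw [hi]⟩⟩
    have hC2A : C2 = A := by
      by_contra hne
      obtain ⟨R, hR⟩ := hC2p.exists_le_sylow
      have hidx : Nat.card (S : Subgroup G) = 2 * Nat.card A := by
        obtain ⟨b, hb⟩ := IsPGroup.iff_card.mp S.2
        obtain ⟨a, ha⟩ := IsPGroup.iff_card.mp (S.2.to_subgroup M)
        have hab : a < b := by
          by_contra hle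
          push Not at hle
          refine hM.1 (Subgroup.eq_top_of_le_card _ ?_)
          rw [ha, hb]
          exact Nat.pow_le_pow_right (by norm_num) hle
        obtain ⟨M', hM'c, hMM'⟩ := Sylow.exists_subgroup_card_pow_prime_le 2
          (n := a) (m := a + 1) (by rw [hb]; exact pow_dvd_pow 2 hab) M ha (by omega)
        have htop : M' = ⊤ := hM.2 M' (lt_of_le_of_ne hMM' fun e => by
          rw [← e, ha] at hM'c
          exact absurd (Nat.pow_right_injective le_rfl hM'c) (by omega))
        rw [htop, Subgroup.card_top] at hM'c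
        rw [hM'c, hA, ← Nat.card_congr (M.equivMapOfInjective _ (S : Subgroup G).subtype_injective).toEquiv, ha,
          pow_succ']
      have hcl : Nat.card A < Nat.card C2 := lt_of_le_of_ne (Subgroup.card_le_of_le hAC2) fun e =>
        hne (Subgroup.eq_of_le_of_card_ge hAC2 e.ge).symm
      have hle := Subgroup.card_le_of_le hR
      have hcR : Nat.card R = Nat.card S := R.card_eq_multiplicity.trans S.card_eq_multiplicity.symm
      obtain ⟨j, hj⟩ := IsPGroup.iff_card.mp hC2p
      obtain ⟨a, ha⟩ := IsPGroup.iff_card.mp (S.2.to_le hAS)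
      rw [hj, ha] at hcl
      rw [hj, hcR, hidx, ha, ← pow_succ'] at hle
      have h1 : a < j := (Nat.pow_lt_pow_iff_right (by norm_num)).mp hcl
      have h2 : j ≤ a + 1 := (Nat.pow_le_pow_iff_right (by norm_num)).mp hle
      have hjeq : j = a + 1 := by omega
      have hC2R : C2 = R := Subgroup.eq_of_le_of_card_ge hR (by rw [hj, hcR, hidx, ha, hjeq, pow_succ'])
      obtain ⟨y, hy⟩ := MulAction.exists_smul_eq G R S
      refine hS fun p hp q hq => ?_
      rw [← hy] at hp hq
      obtain ⟨p', hp', rfl⟩ := Subgroup.mem_map.mp hp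
      obtain ⟨q', hq', rfl⟩ := Subgroup.mem_map.mp hq
      show MulAut.conj y p' * MulAut.conj y q' = MulAut.conj y q' * MulAut.conj y p'
      rw [← map_mul, hCc p' (hC2R.ge hp').1 q' (hC2R.ge hq').1, map_mul]
    refine hgC (Subgroup.centralizer_le hQA (hNA g ?_ hgodd))
    refine Subgroup.mem_normalizer_fintype (S := (A : Set G)) fun a ha => ?_
    rw [SetLike.mem_coe, ← hC2A] at ha ⊢
    exact ⟨(Subgroup.mem_normalizer_iff.mp (hKC hg) a).mp ha.1, by
      rw [CfsgLib.StronglyEmbedded.orderOf_conj]; exact ha.2⟩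
  obtain ⟨N, hN, hc⟩ := (Cfsg.Agent.S0071.result S).mpr key
  rcases hN.eq_bot_or_eq_top with hb | ht
  · rw [hb] at hc
    have htop : (S : Subgroup G) = ⊤ := Subgroup.isComplement'_bot_left.mp hc
    haveI : Nontrivial G := IsSimpleGroup.toNontrivial
    haveI : Nontrivial (S : Subgroup G) := (Subgroup.nontrivial_iff_ne_bot _).mpr (htop ▸ top_ne_bot)
    haveI := S.2.center_nontrivial
    obtain ⟨z, hz1⟩ := exists_ne (1 : Subgroup.center (S : Subgroup G))
    have hzc : ((z : (S : Subgroup G)) : G) ∈ Subgroup.center G := Subgroup.mem_center_iff.mpr fun g =>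
      congrArg Subtype.val (Subgroup.mem_center_iff.mp z.2 ⟨g, htop ▸ Subgroup.mem_top g⟩)
    rw [center_eq_bot_of_simple hna, Subgroup.mem_bot] at hzc
    exact hz1 (Subtype.ext (Subtype.ext hzc))
  · rw [ht] at hc
    have hbot : (S : Subgroup G) = ⊥ := Subgroup.isComplement'_top_left.mp hc
    exact hS fun a ha b hb => by rw [hbot, Subgroup.mem_bot] at ha hb; rw [ha, hb]

/-- The centralizers of involutions are abelian. -/
theorem comm_centralizer_involution (h : Cond G) (hna : ¬ Comm (⊤ : Subgroup G)) {t : G}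
    (ht : orderOf t = 2) : Comm (Subgroup.centralizer ({t} : Set G)) := by
  classical
  haveI : Fact (Nat.Prime 2) := ⟨Nat.prime_two⟩
  by_contra hab
  obtain ⟨S, hS⟩ := (IsPGroup.of_card (n := 1) (G := Subgroup.zpowers t)
    (by rw [Nat.card_zpowers, ht, pow_one])).exists_le_sylow
  have htS : t ∈ (S : Subgroup G) := hS (Subgroup.mem_zpowers t)
  have hSc := comm_sylow_two h hna S
  set K := Subgroup.centralizer ({t} : Set G) with hK
  have hSK : (S : Subgroup G) ≤ K := fun s hs => Subgroup.mem_centralizer_singleton_iff.mpr (hSc s hs t htS)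
  set P := S.subtype hSK with hPdef
  letI : CommGroup (P : Subgroup K) := { (inferInstance : Group (P : Subgroup K)) with
    mul_comm := fun a b => Subtype.ext (Subtype.ext (hSc _ a.2 _ b.2)) }
  set f := MonoidHom.transfer (MonoidHom.id (P : Subgroup K)) with hf
  set W := f.ker with hW
  have hpow : ∀ c : K, (∀ g : K, g * c = c * g) → c ∈ (P : Subgroup K) → c ∈ W → c = 1 := by
    intro c hc hcP hcW
    have hkey : ∀ (k : ℕ) (g₀ : K), g₀⁻¹ * c ^ k * g₀ ∈ (P : Subgroup K) → g₀⁻¹ * c ^ k * g₀ = c ^ k :=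
      fun k g₀ _ => by rw [mul_assoc, ← ((show Commute g₀ c from hc g₀).pow_right k).eq, inv_mul_cancel_left]
    rw [hW, MonoidHom.mem_ker, hf, MonoidHom.transfer_eq_pow _ _ hkey] at hcW
    have h1 : c ^ (P : Subgroup K).index = 1 := congrArg Subtype.val hcW
    obtain ⟨i, hi⟩ := IsPGroup.iff_orderOf.mp P.2 ⟨c, hcP⟩
    rw [Subgroup.orderOf_mk] at hi
    rcases i with _ | i
    · exact orderOf_eq_one_iff.mp (by rw [hi, pow_zero])
    · exact absurd ((hi ▸ dvd_pow_self 2 (Nat.succ_ne_zero i) : 2 ∣ orderOf c).trans (orderOf_dvd_of_pow_eq_one h1))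
        P.not_dvd_index
  have htK : t ∈ K := hSK htS
  have htc : ∀ g : K, g * ⟨t, htK⟩ = ⟨t, htK⟩ * g := fun g =>
    Subtype.ext (Subgroup.mem_centralizer_singleton_iff.mp g.2)
  have hWtop : W ≠ ⊤ := fun e => StronglyEmbedded.ne_one_of_orderOf_two ht
    (congrArg Subtype.val (hpow ⟨t, htK⟩ htc htS (e ▸ Subgroup.mem_top _)))
  have hWc : Comm W := comm_of_normal (h.subgroup K) hWtop
  have hodd : ∀ g : K, Odd (orderOf g) → g ∈ W := fun g hg => by
    rw [hW, MonoidHom.mem_ker]
    exact odd_orderOf_hom f hg (P := ⊤) (P.2.of_equiv Subgroup.topEquiv.symm) (Subgroup.mem_top _)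
  have hgen : (P : Subgroup K) ⊔ W = ⊤ := by
    haveI hn : ((P : Subgroup K) ⊔ W).Normal := ⟨fun a ha g => by
      rw [show g * a * g⁻¹ = ⁅g, a⁆ * a by rw [commutatorElement_def]; group]
      refine Subgroup.mul_mem _ (Subgroup.mem_sup_right ?_) ha
      rw [hW, MonoidHom.mem_ker, map_commutatorElement, commutatorElement_eq_one_iff_commute]
      exact mul_comm (f g) (f a)⟩
    refine eq_top_iff.mpr fun g _ => (QuotientGroup.eq_one_iff g).mp (orderOf_eq_one_iff.mp ?_)
    obtain ⟨i, o, ho, hio⟩ := Nat.exists_eq_pow_mul_and_not_dvd (orderOf_pos g).ne' 2 (by norm_num)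
    have h1 : g ^ 2 ^ i ∈ W := hodd _ (by
      rw [orderOf_pow' g (pow_ne_zero i two_ne_zero), hio, Nat.gcd_eq_right (dvd_mul_right _ _),
        Nat.mul_div_cancel_left _ (by positivity)]
      exact Nat.not_even_iff_odd.mp fun he => ho (even_iff_two_dvd.mp he))
    have h2 : orderOf (QuotientGroup.mk' ((P : Subgroup K) ⊔ W) g) ∣ 2 ^ i := orderOf_dvd_of_pow_eq_one (by
      rw [← map_pow]; exact (QuotientGroup.eq_one_iff _).mpr (Subgroup.mem_sup_right h1))
    have h3 : orderOf (QuotientGroup.mk' ((P : Subgroup K) ⊔ W) g) ∣ (P : Subgroup K).index :=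
      (orderOf_dvd_natCard _).trans (Subgroup.index_dvd_of_le le_sup_left)
    exact Nat.eq_one_of_dvd_coprimes ((Nat.coprime_two_left.mpr (Nat.not_even_iff_odd.mp fun he =>
      P.not_dvd_index (even_iff_two_dvd.mp he))).pow_left i) h2 h3
  have hdec : ∀ g : K, ∃ p ∈ (P : Subgroup K), ∃ w ∈ W, g = p * w := fun g => by
    obtain ⟨p, hp, w, hw, e⟩ := Subgroup.mem_sup_of_normal_right.mp (hgen ▸ Subgroup.mem_top g)
    exact ⟨p, hp, w, hw, e.symm⟩
  have hKab : (∀ p ∈ (P : Subgroup K), ∀ w ∈ W, p * w = w * p) → False := fun hc => hab fun a ha b hb => by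
    obtain ⟨p, hp, w, hw, ea⟩ := hdec ⟨a, ha⟩
    obtain ⟨q, hq, v, hv, eb⟩ := hdec ⟨b, hb⟩
    have hpq : p * q = q * p := Subtype.ext (hSc _ hp _ hq)
    have e : p * w * (q * v) = q * v * (p * w) := by
      calc p * w * (q * v) = p * (w * q) * v := by group
        _ = (p * q) * (w * v) := by rw [← hc q hq w hw]; group
        _ = (q * p) * (v * w) := by rw [hpq, hWc w hw v hv]
        _ = q * (p * v) * w := by group
        _ = q * v * (p * w) := by rw [hc p hp v hv]; group
    rw [← ea, ← eb] at e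
    exact congrArg Subtype.val e
  obtain ⟨s, hs, hsgen⟩ : ∃ s ∈ (P : Subgroup K), W ⊔ Subgroup.zpowers s = ⊤ := by
    by_contra hno
    push Not at hno
    refine hKab fun p hp w hw => ?_
    haveI : (W ⊔ Subgroup.zpowers p).Normal := ⟨fun a ha g => by
      rw [show g * a * g⁻¹ = ⁅g, a⁆ * a by rw [commutatorElement_def]; group]
      refine Subgroup.mul_mem _ (Subgroup.mem_sup_left ?_) ha
      rw [hW, MonoidHom.mem_ker, map_commutatorElement, commutatorElement_eq_one_iff_commute]
      exact mul_comm (f g) (f a)⟩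
    exact comm_of_normal (h.subgroup K) (hno p hp) p (Subgroup.mem_sup_right (Subgroup.mem_zpowers p))
      w (Subgroup.mem_sup_left hw)
  have hinj : ∀ p : (P : Subgroup K), f p = 1 → p = 1 := fun p hp => by
    refine Subtype.ext (hpow (p : K) (fun g => ?_) p.2 hp)
    obtain ⟨w, hw, _, ⟨i, rfl⟩, rfl⟩ := Subgroup.mem_sup_of_normal_left.mp (hsgen ▸ Subgroup.mem_top g)
    have h1 : Commute (p : K) w := hWc (p : K) hp w hw
    have h2 : Commute (p : K) s := Subtype.ext (hSc _ p.2 _ hs)
    exact (h1.mul_right (h2.zpow_right i)).eq.symm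
  have hPcyc : IsCyclic (P : Subgroup K) := by
    have hmem : ∀ p : (P : Subgroup K), f p ∈ Subgroup.zpowers (f s) := fun p => by
      obtain ⟨w, hw, _, ⟨i, rfl⟩, e⟩ := Subgroup.mem_sup_of_normal_left.mp (hsgen ▸ Subgroup.mem_top (p : K))
      exact ⟨i, by rw [← e, map_mul, MonoidHom.mem_ker.mp hw, one_mul, map_zpow]⟩
    exact isCyclic_of_injective (MonoidHom.codRestrict (f.comp (P : Subgroup K).subtype) _ hmem)
      ((injective_iff_map_eq_one _).mpr fun p hp => hinj p (congrArg Subtype.val hp :))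
  refine not_isCyclic_sylow_of_simple (fun hc => hna fun a _ b _ => hc.1.comm a b) ?_ S ?_
  · rw [even_iff_two_dvd, ← ht]; exact orderOf_dvd_natCard t
  · exact (Subgroup.subgroupOfEquivOfLe hSK).isCyclic.mp hPcyc

end CfsgLib.CAGroups.SelfNorm
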